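import Mathlib
import Cfsg.Agent.R2.T1.Inf.Aut

/-!
# The action of the preimage of `H` on the lift (helper5)

* `lift_unique` : two lifts of a homomorphism from an alternating group are equal;
* `conj_psi` : `h ψ(a) h⁻¹ = ψ(σ a σ⁻¹)` for every `h` of the preimage of `H`.
-/

set_option autoImplicit false

namespace Cfsg.Agent.R2.T1.P3

open Cfsg Cfsg.Lie Module Equiv
open Cfsg.Agent.H952.F4 (MaxAlt)
open Cfsg.Agent.R2.T1

variable {F : Type*} [Field F]

/-- lifts are unique -/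
theorem lift_unique {n : ℕ} (hn : 5 ≤ n) {f g : ↥(alternatingGroup (Fin n)) →* Gh F} (h : ∀ a, ad F (f a) = ad F (g a))
    (a : ↥(alternatingGroup (Fin n))) : f a = g a := by
  have hz : ∀ a, ad F (f a * (g a)⁻¹) = 1 := fun a => by rw [map_mul, map_inv, h, mul_inv_cancel]
  let z : ↥(alternatingGroup (Fin n)) →* Gh F := MonoidHom.mk' (fun a => f a * (g a)⁻¹) fun a b => by
    have h1 := ker_comm (hz b) (f a)
    have h2 := ker_comm (hz b) (g a)⁻¹
    show f (a * b) * (g (a * b))⁻¹ = f a * (g a)⁻¹ * (f b * (g b)⁻¹)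
    rw [map_mul, map_mul, mul_inv_rev, mul_assoc (f a) (g a)⁻¹, h2]
    group
  have hzc : ∀ a b, z a * z b = z b * z a := fun a b => (ker_comm (hz b) (z a))
  have h3 : commutator ↥(alternatingGroup (Fin n)) ≤ z.ker := by
    rw [commutator_def, Subgroup.commutator_le]
    intro a _ b _
    rw [MonoidHom.mem_ker, map_commutatorElement, commutatorElement_eq_one_iff_mul_comm]
    exact hzc a b
  rw [alt_perfect hn] at h3
  have h4 : z a = 1 := MonoidHom.mem_ker.1 (h3 (Subgroup.mem_top a))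
  exact mul_inv_eq_one.1 h4

/-- conjugation by a permutation -/
def cjm {n : ℕ} (σ : Perm (Fin n)) : ↥(alternatingGroup (Fin n)) →* ↥(alternatingGroup (Fin n)) where
  toFun a := ⟨σ * a * σ⁻¹, by
    have ha := a.2
    rw [Perm.mem_alternatingGroup] at ha ⊢
    rw [Perm.sign_mul, Perm.sign_mul, ha, mul_one, Perm.sign_inv, Int.units_mul_self]⟩
  map_one' := Subtype.ext (by simp)
  map_mul' a b := Subtype.ext (by simp [mul_assoc])

theorem cjm_coe {n : ℕ} (σ : Perm (Fin n)) (a : ↥(alternatingGroup (Fin n))) :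
    ((cjm σ a : ↥(alternatingGroup (Fin n))) : Perm (Fin n)) = σ * a * σ⁻¹ := rfl

theorem conj_psi {n : ℕ} (hn : 7 ≤ n) {H : Subgroup ↥(chevE7.group F)} {φ : ↥(alternatingGroup (Fin n)) →* ↥(chevE7.group F)}
    (hM : MaxAlt H n φ) {ψ : ↥(alternatingGroup (Fin n)) →* Gh F} (hL : Lift φ ψ) {h : Gh F} (hh : ad F h ∈ H) :
    ∃ σ : Perm (Fin n), ∀ a b : ↥(alternatingGroup (Fin n)), (b : Perm (Fin n)) = σ * a * σ⁻¹ → h * ψ a * h⁻¹ = ψ b := by
  obtain ⟨σ, hσ⟩ := exists_perm hn hM hh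
  refine ⟨σ, fun a b hab => ?_⟩
  have key := lift_unique (F := F) (n := n) (by omega) (f := (MulAut.conj h).toMonoidHom.comp ψ) (g := ψ.comp (cjm σ))
    (fun a => by
      show ad F (h * ψ a * h⁻¹) = ad F (ψ (cjm σ a))
      rw [map_mul, map_mul, map_inv, hL, hL]
      exact hσ a (cjm σ a) rfl) a
  have h1 : b = cjm σ a := Subtype.ext hab
  rw [h1]
  exact key

end Cfsg.Agent.R2.T1.P3
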