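import Cfsg.Agent.R2.T1.Mu.Root
import Cfsg.Agent.R2.PX.W.Cl

/-!
# S5771, box P3, step Q2: a totally pure seven-dimensional subspace (helper3)

* `TP K v` : eight vectors with sum 0, permuted by the even permutations, pairwise orthogonal, such that the sum of
  four of them is pure;
* `TP.zero : DD K (v i) (v j) = 0` (`2 ≠ 0` in `K`).
-/

set_option autoImplicit false

namespace Cfsg.Agent.R2.T1.P3

open Cfsg Cfsg.Lie Module Matrix
open Cfsg.Agent.R2.T1 Cfsg.Agent.R2.T1.Mu Cfsg.Agent.R2.PX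
open Cfsg.Agent.H943.E7V.Block (D1 rho)
open Equiv

universe u

/-- the hypotheses -/
structure TP (K : Type u) [Field K] (v : Fin 8 → D1 → K) : Prop where
  act : ∀ π : Perm (Fin 8), Perm.sign π = 1 → ∃ g : Gh K, ∀ i, V K g (v i) = v (π i)
  sum : ∑ i, v i = 0
  iso : ∀ i j, sf K (v i) (v j) = 0
  pure : Pure K (v 0 + v 1 + v 2 + v 3)

/-- an even permutation with six prescribed values -/
theorem even6 {a b c d e f : Fin 8} (nd : [a, b, c, d, e, f].Nodup) :
    ∃ π : Perm (Fin 8), Perm.sign π = 1 ∧ π 0 = a ∧ π 1 = b ∧ π 2 = c ∧ π 3 = d ∧ π 4 = e ∧ π 5 = f := by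
  obtain ⟨p, q, nd8⟩ := PX.W.ext6 nd
  obtain ⟨s, e0, e1, e2, e3, e4, e5, e6, e7⟩ := PX.W.exists_perm8 nd8
  rcases Int.units_eq_one_or (Perm.sign s) with h | h
  · exact ⟨s, h, e0, e1, e2, e3, e4, e5⟩
  · refine ⟨s * swap 6 7, by rw [Perm.sign_mul, h, Perm.sign_swap (by decide)]; rfl, ?_, ?_, ?_, ?_, ?_, ?_⟩
    · rw [Perm.mul_apply, swap_apply_of_ne_of_ne (by decide) (by decide), e0]
    · rw [Perm.mul_apply, swap_apply_of_ne_of_ne (by decide) (by decide), e1]
    · rw [Perm.mul_apply, swap_apply_of_ne_of_ne (by decide) (by decide), e2]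
    · rw [Perm.mul_apply, swap_apply_of_ne_of_ne (by decide) (by decide), e3]
    · rw [Perm.mul_apply, swap_apply_of_ne_of_ne (by decide) (by decide), e4]
    · rw [Perm.mul_apply, swap_apply_of_ne_of_ne (by decide) (by decide), e5]

theorem even4 {a b c d : Fin 8} (nd : [a, b, c, d].Nodup) :
    ∃ π : Perm (Fin 8), Perm.sign π = 1 ∧ π 0 = a ∧ π 1 = b ∧ π 2 = c ∧ π 3 = d := by
  obtain ⟨n, o, p, q, nd8⟩ := PX.W.ext4 nd
  have nd6 : [a, b, c, d, n, o].Nodup := by
    have h : [a, b, c, d, n, o].Sublist [a, b, c, d, n, o, p, q] := by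
      rw [show [a, b, c, d, n, o, p, q] = [a, b, c, d, n, o] ++ [p, q] from rfl]
      exact List.sublist_append_left _ _
    exact nd8.sublist h
  obtain ⟨π, h, h0, h1, h2, h3, -, -⟩ := even6 nd6
  exact ⟨π, h, h0, h1, h2, h3⟩

namespace TP

variable {K : Type u} [Field K] {v : Fin 8 → D1 → K}

/-- the element `r_ij` -/
noncomputable def r (v : Fin 8 → D1 → K) (i j : Fin 8) : Matrix D1 D1 K := DD K (v j - v i) (v j - v i)

theorem DD_conj' (g : Gh K) (x y : D1 → K) : DD K (V K g x) (V K g y) * rho K g = rho K g * DD K x y := equi K g x y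

theorem pure4 (h : TP K v) {a b c d : Fin 8} (nd : [a, b, c, d].Nodup) : Pure K (v a + v b + v c + v d) := by
  obtain ⟨π, hs, h0, h1, h2, h3⟩ := even4 nd
  obtain ⟨g, hg⟩ := h.act π hs
  have h4 := pure_V h.pure g
  rwa [map_add, map_add, map_add, hg, hg, hg, hg, h0, h1, h2, h3] at h4

theorem r_symm (i j : Fin 8) : r v i j = r v j i := by
  rw [r, r, show v j - v i = -(v i - v j) by abel, DD_neg_left, DD_neg_right, neg_neg]

/-- `r` is equivariant -/
theorem r_conj {π : Perm (Fin 8)} {g : Gh K} (hg : ∀ i, V K g (v i) = v (π i)) (i j : Fin 8) :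
    r v (π i) (π j) * rho K g = rho K g * r v i j := by
  rw [r, r, ← hg, ← hg, ← map_sub, DD_conj']

theorem pure_add {x y : D1 → K} (hx : PX.Pure K x) (hxy : PX.Pure K (x + y)) : (2 : K) • DD K x y = - DD K y y := by
  unfold PX.Pure at hx hxy
  rw [DD_add_left, DD_add_right, DD_add_right, hx, zero_add, DD_comm y] at hxy
  rw [two_smul, eq_neg_iff_add_eq_zero, add_assoc]
  exact hxy

/-- `D(w, v_j - v_i)` for `i ∈ A`, `j ∉ A` -/
theorem D_step (h : TP K v) {a b c i j : Fin 8} (nd : [a, b, c, i, j].Nodup) :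
    (2 : K) • DD K (v a + v b + v c + v i) (v j - v i) = - r v i j := by
  have h1 : Pure K (v a + v b + v c + v i) := h.pure4 (by
    refine nd.sublist ?_
    rw [show [a, b, c, i, j] = [a, b, c, i] ++ [j] from rfl]
    exact List.sublist_append_left _ _)
  have h2 : Pure K (v a + v b + v c + v j) := h.pure4 (by
    refine nd.sublist ?_
    simp)
  have h3 : v a + v b + v c + v j = (v a + v b + v c + v i) + (v j - v i) := by abel
  rw [h3] at h2
  exact pure_add h1 h2

theorem D_pair (h : TP K v) {a b c i j : Fin 8} (nd : [a, b, c, i, j].Nodup) :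
    (2 : K) • DD K (v a + v b + v c + v i) (v a + v b + v c + v j) = - r v i j := by
  have h1 : Pure K (v a + v b + v c + v i) := h.pure4 (by
    refine nd.sublist ?_
    rw [show [a, b, c, i, j] = [a, b, c, i] ++ [j] from rfl]
    exact List.sublist_append_left _ _)
  unfold PX.Pure at h1
  have h3 : v a + v b + v c + v j = (v a + v b + v c + v i) + (v j - v i) := by abel
  rw [h3, DD_add_right, h1, zero_add]
  exact h.D_step nd

theorem iso4 (h : TP K v) (a b c d e f x y : Fin 8) :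
    sf K (v a + v b + v c + v d) (v e + v f + v x + v y) = 0 := by
  simp only [map_add, LinearMap.add_apply, h.iso, add_zero]

/-- the pure pair of `r_ij` -/
theorem pairRt (h : TP K v) (h2 : (2 : K) ≠ 0) {a b c i j : Fin 8} (nd : [a, b, c, i, j].Nodup) (hr : r v i j ≠ 0) :
    IsRt (r v i j) ∧ ∃ u, v a + v b + v c + v i = r v i j *ᵥ u := by
  have h1 : Pure K (v a + v b + v c + v i) := h.pure4 (by
    refine nd.sublist ?_
    rw [show [a, b, c, i, j] = [a, b, c, i] ++ [j] from rfl]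
    exact List.sublist_append_left _ _)
  have h1' : Pure K (v a + v b + v c + v j) := h.pure4 (by
    refine nd.sublist ?_
    simp)
  have h3 := h.D_pair nd
  have h4 : DD K (v a + v b + v c + v i) (v a + v b + v c + v j) = (-(2 : K)⁻¹) • r v i j := by
    have h5 := congrArg (fun m => (2 : K)⁻¹ • m) h3
    simp only [smul_smul, inv_mul_cancel₀ h2, one_smul] at h5
    rw [h5, smul_neg, neg_smul]
  have hc : (-(2 : K)⁻¹) ≠ 0 := neg_ne_zero.2 (inv_ne_zero h2)
  have h5 : DD K (v a + v b + v c + v i) (v a + v b + v c + v j) ≠ 0 := by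
    rw [h4]; exact smul_ne_zero hc hr
  obtain ⟨h6, ⟨u, hu⟩, -⟩ := IsRt.of_pair h2 h1 h1' (h.iso4 _ _ _ _ _ _ _ _) h5
  rw [h4] at h6 hu
  refine ⟨?_, (-(2 : K)⁻¹) • u, ?_⟩
  · have h7 := h6.smul (inv_ne_zero hc)
    rwa [smul_smul, inv_mul_cancel₀ hc, one_smul] at h7
  · rw [Matrix.mulVec_smul, ← Matrix.smul_mulVec]; exact hu

/-- disjoint pairs have proportional elements -/
theorem r_disj (h : TP K v) (h2 : (2 : K) ≠ 0) {i j c d a b : Fin 8} (nd : [i, j, c, d, a, b].Nodup)
    (hr : r v i j ≠ 0) : ∃ k : K, r v c d = k • r v i j := by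
  have nd1 : [a, b, c, i, j].Nodup := by
    simp only [List.nodup_cons, List.mem_cons, List.not_mem_nil, not_or, List.nodup_nil, not_false_eq_true, and_true] at nd ⊢
    tauto
  have nd2 : [a, b, d, i, j].Nodup := by
    simp only [List.nodup_cons, List.mem_cons, List.not_mem_nil, not_or, List.nodup_nil, not_false_eq_true, and_true] at nd ⊢
    tauto
  have nd3 : [a, b, i, c, d].Nodup := by
    simp only [List.nodup_cons, List.mem_cons, List.not_mem_nil, not_or, List.nodup_nil, not_false_eq_true, and_true] at nd ⊢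
    tauto
  obtain ⟨h3, u, hu⟩ := h.pairRt h2 nd1 hr
  obtain ⟨-, w, hw⟩ := h.pairRt h2 nd2 hr
  have h4 := h.D_pair nd3
  rw [show v a + v b + v i + v c = v a + v b + v c + v i by abel,
    show v a + v b + v i + v d = v a + v b + v d + v i by abel, hu, hw] at h4
  obtain ⟨k, hk⟩ := h3.pair u w
  rw [hk, smul_smul] at h4
  refine ⟨-(2 * k), ?_⟩
  rw [neg_smul, h4, neg_neg]

/-- all the `r_ij` are non-zero if one is -/
theorem r_ne (h : TP K v) {i j k l : Fin 8} (hij : i ≠ j) (hkl : k ≠ l) (hr : r v i j ≠ 0) : r v k l ≠ 0 := by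
  intro h0
  obtain ⟨a, b, c, d, e, f, nd⟩ := PX.W.ext2 hij
  obtain ⟨a', b', c', d', e', f', nd'⟩ := PX.W.ext2 hkl
  have key : ∀ {i j a b c d e f : Fin 8}, [i, j, a, b, c, d, e, f].Nodup → [i, j, a, b, c, d].Nodup := by
    intro i j a b c d e f nd
    refine nd.sublist ?_
    rw [show [i, j, a, b, c, d, e, f] = [i, j, a, b, c, d] ++ [e, f] from rfl]
    exact List.sublist_append_left _ _
  obtain ⟨π, hs, h1, h2, -, -, -, -⟩ := even6 (key nd)
  obtain ⟨π', hs', h1', h2', -, -, -, -⟩ := even6 (key nd')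
  obtain ⟨g, hg⟩ := h.act (π' * π⁻¹) (by rw [Perm.sign_mul, Perm.sign_inv, hs, hs']; rfl)
  have h3 := r_conj hg i j
  have e1 : (π' * π⁻¹) i = k := by
    rw [Perm.mul_apply, ← h1, ← h1']; congr 1; exact π.symm_apply_apply 0
  have e2 : (π' * π⁻¹) j = l := by
    rw [Perm.mul_apply, ← h2, ← h2']; congr 1; exact π.symm_apply_apply 1
  rw [e1, e2, h0, Matrix.zero_mul] at h3
  apply hr
  calc r v i j = rho K g⁻¹ * (rho K g * r v i j) := by
        rw [← Matrix.mul_assoc, rho_inv_mul', Matrix.one_mul]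
    _ = 0 := by rw [← h3, Matrix.mul_zero]

/-- `r_xy = r_yz` -/
theorem r_eq (h : TP K v) (h2 : (2 : K) ≠ 0) {x y z : Fin 8} (nd : [x, y, z].Nodup) (hr : r v x y ≠ 0) :
    r v x y = r v y z := by
  have hxy : x ≠ y := by
    simp only [List.nodup_cons, List.mem_cons, not_or] at nd
    exact nd.1.1
  have hyz : y ≠ z := by
    simp only [List.nodup_cons, List.mem_cons, not_or] at nd
    exact nd.2.1.1
  have hxz : x ≠ z := by
    simp only [List.nodup_cons, List.mem_cons, not_or] at nd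
    exact nd.1.2.1
  obtain ⟨i, hi⟩ := PX.W.exists_next _ nd (by simp)
  obtain ⟨j, a, b, c, hj⟩ := PX.W.ext4 hi
  simp only [List.nodup_cons, List.mem_cons, List.not_mem_nil, not_or, List.nodup_nil, not_false_eq_true, and_true] at hj
  have ndd : [i, j, x, y, a, b].Nodup := by
    simp only [List.nodup_cons, List.mem_cons, List.not_mem_nil, not_or, List.nodup_nil, not_false_eq_true, and_true]
    tauto
  have hij : i ≠ j := by tauto
  have hr' := h.r_ne hxy hij hr
  obtain ⟨k, hk⟩ := h.r_disj h2 ndd hr'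
  -- the three-cycle
  obtain ⟨g, hg⟩ := h.act (swap x y * swap y z) (by
    rw [Perm.sign_mul, Perm.sign_swap hxy, Perm.sign_swap hyz]; rfl)
  have e1 : (swap x y * swap y z : Perm (Fin 8)) x = y := by
    rw [Perm.mul_apply, swap_apply_of_ne_of_ne hxy hxz, swap_apply_left]
  have e2 : (swap x y * swap y z : Perm (Fin 8)) y = z := by
    rw [Perm.mul_apply, swap_apply_left, swap_apply_of_ne_of_ne (Ne.symm hxz) (Ne.symm hyz)]
  have e3 : (swap x y * swap y z : Perm (Fin 8)) i = i := by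
    have e5 : swap y z i = i := swap_apply_of_ne_of_ne (by tauto) (by tauto)
    rw [Perm.mul_apply, e5, swap_apply_of_ne_of_ne (by tauto) (by tauto)]
  have e4 : (swap x y * swap y z : Perm (Fin 8)) j = j := by
    have e5 : swap y z j = j := swap_apply_of_ne_of_ne (by tauto) (by tauto)
    rw [Perm.mul_apply, e5, swap_apply_of_ne_of_ne (by tauto) (by tauto)]
  have h3 := r_conj hg x y
  have h4 := r_conj hg i j
  rw [e1, e2] at h3
  rw [e3, e4] at h4
  rw [hk, Matrix.mul_smul, ← h4, ← Matrix.smul_mul, ← hk] at h3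
  calc r v x y = r v x y * (rho K g * rho K g⁻¹) := by rw [rho_mul_inv', Matrix.mul_one]
    _ = r v y z * (rho K g * rho K g⁻¹) := by rw [← Matrix.mul_assoc, ← Matrix.mul_assoc, h3]
    _ = r v y z := by rw [rho_mul_inv', Matrix.mul_one]

/-- the matching relation -/
theorem matching (h : TP K v) : r v 0 4 + r v 1 5 + r v 2 6 + r v 3 7 = 0 := by
  have hsum := h.sum
  rw [Fin.sum_univ_eight] at hsum
  have hp : DD K (v 0 + v 1 + v 2 + v 3) (v 0 + v 1 + v 2 + v 3) = 0 := h.pure
  have h0 := h.D_step (a := 1) (b := 2) (c := 3) (i := 0) (j := 4) (by decide)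
  have h1 := h.D_step (a := 0) (b := 2) (c := 3) (i := 1) (j := 5) (by decide)
  have h2 := h.D_step (a := 0) (b := 1) (c := 3) (i := 2) (j := 6) (by decide)
  have h3 := h.D_step (a := 0) (b := 1) (c := 2) (i := 3) (j := 7) (by decide)
  rw [show v 1 + v 2 + v 3 + v 0 = v 0 + v 1 + v 2 + v 3 by abel] at h0
  rw [show v 0 + v 2 + v 3 + v 1 = v 0 + v 1 + v 2 + v 3 by abel] at h1
  rw [show v 0 + v 1 + v 3 + v 2 = v 0 + v 1 + v 2 + v 3 by abel] at h2
  have h4 : DD K (v 0 + v 1 + v 2 + v 3) ((v 4 - v 0) + (v 5 - v 1) + (v 6 - v 2) + (v 7 - v 3)) = 0 := by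
    have e : (v 4 - v 0) + (v 5 - v 1) + (v 6 - v 2) + (v 7 - v 3) = (-2 : K) • (v 0 + v 1 + v 2 + v 3) := by
      have : v 4 + v 5 + v 6 + v 7 = - (v 0 + v 1 + v 2 + v 3) := by
        rw [eq_neg_iff_add_eq_zero, ← hsum]; abel
      calc (v 4 - v 0) + (v 5 - v 1) + (v 6 - v 2) + (v 7 - v 3)
          = (v 4 + v 5 + v 6 + v 7) - (v 0 + v 1 + v 2 + v 3) := by abel
        _ = _ := by rw [this, neg_smul, two_smul]; abel
    rw [e, DD_smul_right, hp, smul_zero]
  rw [DD_add_right, DD_add_right, DD_add_right] at h4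
  have h5 := congrArg (fun m => (2 : K) • m) h4
  simp only [smul_add, smul_zero, h0, h1, h2, h3] at h5
  rw [← neg_eq_zero]
  rw [← h5]
  abel

theorem r_zero (h : TP K v) (h2 : (2 : K) ≠ 0) {i j : Fin 8} (hij : i ≠ j) : r v i j = 0 := by
  by_contra hne
  have hall : ∀ {k l : Fin 8}, k ≠ l → r v k l ≠ 0 := fun hkl => h.r_ne hij hkl hne
  have e1 : r v 0 4 = r v 1 5 := by
    rw [h.r_eq h2 (x := 0) (y := 4) (z := 1) (by decide) (hall (by decide)),
      h.r_eq h2 (x := 4) (y := 1) (z := 5) (by decide) (hall (by decide))]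
  have e2 : r v 1 5 = r v 2 6 := by
    rw [h.r_eq h2 (x := 1) (y := 5) (z := 2) (by decide) (hall (by decide)),
      h.r_eq h2 (x := 5) (y := 2) (z := 6) (by decide) (hall (by decide))]
  have e3 : r v 2 6 = r v 3 7 := by
    rw [h.r_eq h2 (x := 2) (y := 6) (z := 3) (by decide) (hall (by decide)),
      h.r_eq h2 (x := 6) (y := 3) (z := 7) (by decide) (hall (by decide))]
  have h3 := h.matching
  rw [e1, e2, e3] at h3
  have h4 : (2 * 2 : K) • r v 3 7 = 0 := by
    rw [← h3]; module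
  exact smul_ne_zero (mul_ne_zero h2 h2) (hall (by decide)) h4

/-- **Q2** : the seven-dimensional subspace is totally pure -/
theorem zero (h : TP K v) (h2 : (2 : K) ≠ 0) (i j : Fin 8) : DD K (v i) (v j) = 0 := by
  -- `2 D(v_i, v_j) = D(v_i, v_i) + D(v_j, v_j)`
  have h3 : ∀ i j, (2 : K) • DD K (v i) (v j) = DD K (v i) (v i) + DD K (v j) (v j) := by
    intro i j
    by_cases hij : i = j
    · subst hij; rw [two_smul]
    · have h4 := h.r_zero h2 hij
      unfold r at h4
      rw [sub_eq_add_neg, DD_add_left, DD_add_right, DD_add_right, DD_neg_left, DD_neg_left, DD_neg_right, DD_neg_right, neg_neg,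
        DD_comm (v j) (v i)] at h4
      rw [two_smul, ← sub_eq_zero, ← neg_eq_zero, ← h4]
      abel
  have hs : ∀ i, ∑ j, DD K (v i) (v j) = 0 := by
    intro i
    rw [← DD_sum_right, h.sum, DD_zero_right]
  have h8 : (8 : K) ≠ 0 := by
    have : (8 : K) = 2 * 2 * 2 := by norm_num
    rw [this]; exact mul_ne_zero (mul_ne_zero h2 h2) h2
  set T := ∑ j, DD K (v j) (v j) with hT
  have h5 : ∀ i, (8 : K) • DD K (v i) (v i) + T = 0 := by
    intro i
    have h6 : ∑ j, (2 : K) • DD K (v i) (v j) = (8 : K) • DD K (v i) (v i) + T := by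
      rw [Finset.sum_congr rfl fun j _ => h3 i j, Finset.sum_add_distrib, Finset.sum_const, Finset.card_univ,
        Fintype.card_fin, hT]
      congr 1
      rw [← Nat.cast_smul_eq_nsmul K]
      norm_num
    rw [← h6, ← Finset.smul_sum, hs, smul_zero]
  have h6 : (2 : K) • T = 0 := by
    have h7 : ∑ i : Fin 8, ((8 : K) • DD K (v i) (v i) + T) = 0 := Finset.sum_eq_zero fun i _ => h5 i
    rw [Finset.sum_add_distrib, ← Finset.smul_sum, ← hT, Finset.sum_const, Finset.card_univ, Fintype.card_fin,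
      ← Nat.cast_smul_eq_nsmul K, ← add_smul] at h7
    have h9 : ((8 : K) + ((8 : ℕ) : K)) = 8 * 2 := by push_cast; norm_num
    rw [h9, mul_smul] at h7
    exact (smul_eq_zero.1 h7).resolve_left h8
  have hT0 : T = 0 := (smul_eq_zero.1 h6).resolve_left h2
  have h7 : ∀ i, DD K (v i) (v i) = 0 := fun i => by
    have h9 := h5 i
    rw [hT0, add_zero] at h9
    exact (smul_eq_zero.1 h9).resolve_left h8
  have h9 := h3 i j
  rw [h7, h7, add_zero] at h9
  exact (smul_eq_zero.1 h9).resolve_left h2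

end TP

end Cfsg.Agent.R2.T1.P3
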